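import Groth.Prelude.Def_W4c1chowmix47Eta
import Mathlib.RingTheory.Valuation.LocalSubring
import Mathlib.Algebra.CharP.Reduced
import Mathlib.Algebra.CharP.Algebra
import Mathlib.RingTheory.Ideal.MinimalPrime.Basic
import Mathlib.RingTheory.Ideal.GoingUp
import Mathlib.RingTheory.IntegralClosure.IsIntegralClosure.Basic

/-!
# Theory of `EtaPt.FieldEndo`: evaluation at fields, `M`, primes of `M`, rings between `A` and `M A`
-/

set_option autoImplicit false

universe u

namespace Groth.Agent.EtaPtLib

open _root_.EtaPt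

variable (η : FieldEndo.{u})

/-! ### Fields -/

theorem endo_ext {K : Type u} [Field K] {L : Type u} [Field L] (f g : η.obj K →+* L)
    (h : f.comp (η.eta K) = g.comp (η.eta K)) : f = g := by
  ext x
  obtain ⟨n, a, ha⟩ := η.exists_pow_mem_range_eta K x
  haveI : ExpChar L (ringExpChar K) :=
    expChar_of_injective_ringHom (f.comp (η.eta K)).injective _
  apply iterateFrobenius_inj L (ringExpChar K) n
  simp only [iterateFrobenius_def]
  rw [← map_pow, ← map_pow, ← ha]
  exact congrArg (fun k : K →+* L => k a) h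

theorem map_eta_eq (K : Type u) [Field K] : η.map (η.eta K) = η.eta (η.obj K) :=
  endo_ext η _ _ (η.eta_natural (η.eta K))

theorem eta_obj_bijective (K : Type u) [Field K] : Function.Bijective (η.eta (η.obj K)) :=
  map_eta_eq η K ▸ η.bijective_map_eta K

theorem eta_natural_apply {K L : Type u} [Field K] [Field L] (f : K →+* L) (a : K) :
    η.map f (η.eta K a) = η.eta L (f a) :=
  congrArg (fun k : K →+* η.obj L => k a) (η.eta_natural f)

theorem map_map {K L E : Type u} [Field K] [Field L] [Field E] (f : K →+* L) (g : L →+* E)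
    (x : η.obj K) : η.map g (η.map f x) = η.map (g.comp f) x := by
  rw [η.map_comp]; rfl

theorem map_bijective_of_bijective {K L : Type u} [Field K] [Field L] (f : K →+* L)
    (hf : Function.Bijective f) : Function.Bijective (η.map f) := by
  let e := RingEquiv.ofBijective f hf
  have h1 : e.symm.toRingHom.comp f = RingHom.id K := RingHom.ext fun x => e.symm_apply_apply x
  have h2 : f.comp e.symm.toRingHom = RingHom.id L := RingHom.ext fun x => e.apply_symm_apply x
  refine Function.bijective_iff_has_inverse.2 ⟨η.map e.symm.toRingHom, fun x => ?_, fun x => ?_⟩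
  · rw [map_map, h1, η.map_id]; rfl
  · rw [map_map, h2, η.map_id]; rfl

theorem eta_bijective_of_bijective {K L : Type u} [Field K] [Field L] (f : K →+* L)
    (hf : Function.Bijective f) (hK : Function.Bijective (η.eta K)) :
    Function.Bijective (η.eta L) := by
  have h : ((η.eta L).comp f : K → η.obj L) = (η.map f) ∘ (η.eta K) := by
    rw [← η.eta_natural]; rfl
  have h2 : Function.Bijective (η.eta L ∘ f) := by
    rw [RingHom.coe_comp] at h
    rw [h]; exact (map_bijective_of_bijective η f hf).comp hK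
  exact (Function.Bijective.of_comp_iff _ hf).1 h2

theorem inV_iff (R : Type u) [CommRing R] [IsDomain R] (L : Type u) [Field L] [Algebra R L]
    [IsFractionRing R L] : η.InV R ↔ Function.Bijective (η.eta L) := by
  let e := (FractionRing.algEquiv R L).toRingEquiv
  exact ⟨fun h => eta_bijective_of_bijective η e.toRingHom e.bijective h,
    fun h => eta_bijective_of_bijective η e.symm.toRingHom e.symm.bijective h⟩

theorem inV_valuationSubring {L : Type u} [Field L] (hL : Function.Bijective (η.eta L))
    (V : ValuationSubring L) : η.InV V :=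
  (inV_iff η V L).2 hL

theorem map_bijective_of_factor {K K' : Type u} [Field K] [Field K'] (i : K →+* K')
    (φ : K' →+* η.obj K) (h : φ.comp i = η.eta K) : Function.Bijective (η.map i) := by
  have hc : Function.Bijective (η.map φ ∘ η.map i) := by
    have : (η.map φ ∘ η.map i : η.obj K → _) = η.map (η.eta K) := by
      funext x; rw [Function.comp_apply, map_map, h]
    rw [this]; exact η.bijective_map_eta K
  have hφ : Function.Bijective (η.map φ) :=
    ⟨(η.map φ).injective, hc.2.of_comp⟩
  exact (Function.Bijective.of_comp_iff' hφ _).1 hc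

theorem factor_of_map_bijective {K K' : Type u} [Field K] [Field K'] (i : K →+* K')
    (h : Function.Bijective (η.map i)) : ∃ φ : K' →+* η.obj K, φ.comp i = η.eta K := by
  refine ⟨(RingEquiv.ofBijective _ h).symm.toRingHom.comp (η.eta K'), RingHom.ext fun a => ?_⟩
  change (RingEquiv.ofBijective _ h).symm (η.eta K' (i a)) = η.eta K a
  rw [← eta_natural_apply η i a]
  exact (RingEquiv.ofBijective _ h).symm_apply_apply _

/-! ### Evaluation of elements of `N A` at homomorphisms to fields -/

variable {A B : Type u} [CommRing A] [CommRing B]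

/-- The map of residue fields at a prime. -/
noncomputable abbrev resMap (f : A →+* B) (q : PrimeSpectrum B) :
    (PrimeSpectrum.comap f q).asIdeal.ResidueField →+* q.asIdeal.ResidueField :=
  Ideal.ResidueField.map (PrimeSpectrum.comap f q).asIdeal q.asIdeal f rfl

theorem resMap_algebraMap (f : A →+* B) (q : PrimeSpectrum B) (a : A) :
    resMap f q (algebraMap A _ a) = algebraMap B q.asIdeal.ResidueField (f a) :=
  Ideal.ResidueField.map_algebraMap _ _ f rfl a

/-- The prime `ker g` of a homomorphism to a field. -/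
def kerPt {L : Type u} [Field L] (g : A →+* L) : PrimeSpectrum A :=
  ⟨RingHom.ker g, RingHom.ker_isPrime g⟩

/-- The field map `k(p) → L` induced by a map with kernel `p`. -/
noncomputable def liftField {L : Type u} [Field L] (p : PrimeSpectrum A) (g : A →+* L)
    (hk : RingHom.ker g = p.asIdeal) : p.asIdeal.ResidueField →+* L :=
  Ideal.ResidueField.lift p.asIdeal g hk.ge
    fun x hx => isUnit_iff_ne_zero.2 fun h => (show x ∉ p.asIdeal from hx)
      (hk ▸ RingHom.mem_ker.2 h)

theorem liftField_algebraMap {L : Type u} [Field L] (p : PrimeSpectrum A) (g : A →+* L)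
    (hk : RingHom.ker g = p.asIdeal) (a : A) : liftField p g hk (algebraMap A _ a) = g a :=
  Ideal.ResidueField.lift_algebraMap p.asIdeal g hk.ge
    (fun x hx => isUnit_iff_ne_zero.2 fun h => (show x ∉ p.asIdeal from hx)
      (hk ▸ RingHom.mem_ker.2 h)) a

/-- The field map `k(ker g) → L`. -/
noncomputable def kerLift {L : Type u} [Field L] (g : A →+* L) :
    (kerPt g).asIdeal.ResidueField →+* L :=
  liftField (kerPt g) g rfl

theorem kerLift_comp {L : Type u} [Field L] (g : A →+* L) :
    (kerLift g).comp (algebraMap A _) = g :=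
  RingHom.ext fun a => liftField_algebraMap (kerPt g) g rfl a

/-- The value of `x : N A` at `g : A → L`, in `F L`. -/
noncomputable def ev {L : Type u} [Field L] (g : A →+* L) : η.N A →+* η.obj L :=
  (η.map (kerLift g)).comp
    (Pi.evalRingHom (fun p : PrimeSpectrum A => η.obj p.asIdeal.ResidueField) (kerPt g))

theorem ev_eq {L : Type u} [Field L] (g : A →+* L) (p : PrimeSpectrum A)
    (φ : p.asIdeal.ResidueField →+* L) (h : φ.comp (algebraMap A _) = g) (x : η.N A) :
    ev η g x = η.map φ (x p) := by
  obtain rfl : p = kerPt g := by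
    refine PrimeSpectrum.ext ?_
    change p.asIdeal = RingHom.ker g
    rw [← h, ← RingHom.comap_ker, (RingHom.injective_iff_ker_eq_bot φ).1 φ.injective,
      ← RingHom.ker_eq_comap_bot, Ideal.ker_algebraMap_residueField]
  obtain rfl : φ = kerLift g := Ideal.ResidueField.ringHom_ext (h.trans (kerLift_comp g).symm)
  rfl

theorem ev_algebraMap (p : PrimeSpectrum A) (x : η.N A) :
    ev η (algebraMap A p.asIdeal.ResidueField) x = x p := by
  rw [ev_eq η _ p (RingHom.id _) (RingHom.id_comp _), η.map_id]; rfl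

theorem ev_comp {L L' : Type u} [Field L] [Field L'] (g : A →+* L) (h : L →+* L') (x : η.N A) :
    ev η (h.comp g) x = η.map h (ev η g x) := by
  rw [ev_eq η (h.comp g) (kerPt g) (h.comp (kerLift g))
    (by rw [RingHom.comp_assoc, kerLift_comp]), η.map_comp]
  rfl

theorem Nmap_apply (f : A →+* B) (x : η.N A) (q : PrimeSpectrum B) :
    η.Nmap f x q = η.map (resMap f q)
      (x (PrimeSpectrum.comap f q)) := rfl

theorem Nmap_apply_eq_ev (f : A →+* B) (x : η.N A) (q : PrimeSpectrum B) :
    η.Nmap f x q = ev η ((algebraMap B q.asIdeal.ResidueField).comp f) x :=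
  (ev_eq η _ (PrimeSpectrum.comap f q)
    (resMap f q)
    (RingHom.ext fun a => resMap_algebraMap f q a) x).symm

theorem ev_Nmap {L : Type u} [Field L] (f : A →+* B) (g : B →+* L) (x : η.N A) :
    ev η g (η.Nmap f x) = ev η (g.comp f) x := by
  conv_rhs => rw [← kerLift_comp g, RingHom.comp_assoc, ev_comp, ← Nmap_apply_eq_ev]
  rfl

theorem ev_t {L : Type u} [Field L] (g : A →+* L) (a : A) :
    ev η g (η.t A a) = η.eta L (g a) := by
  change η.map (kerLift g) (η.eta _ (algebraMap A _ a)) = _
  rw [eta_natural_apply]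
  exact congrArg (fun k : A →+* L => η.eta L (k a)) (kerLift_comp g)

theorem ev_eq_zero_iff {L : Type u} [Field L] (g : A →+* L) (p : PrimeSpectrum A)
    (hp : RingHom.ker g = p.asIdeal) (x : η.N A) : ev η g x = 0 ↔ x p = 0 := by
  obtain rfl : p = kerPt g := PrimeSpectrum.ext hp.symm
  exact map_eq_zero_iff _ (kerLift g |> η.map).injective

theorem N_ext {x y : η.N A}
    (h : ∀ (L : Type u) [Field L] (g : A →+* L), ev η g x = ev η g y) : x = y := by
  funext p
  rw [← ev_algebraMap η p x, ← ev_algebraMap η p y]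
  exact h _ _

theorem Nmap_comp {C : Type u} [CommRing C] (f : A →+* B) (g : B →+* C) :
    η.Nmap (g.comp f) = (η.Nmap g).comp (η.Nmap f) := by
  refine RingHom.ext fun x => funext fun q => ?_
  rw [RingHom.comp_apply, Nmap_apply_eq_ev, Nmap_apply_eq_ev, ev_Nmap, RingHom.comp_assoc]

theorem Nmap_comp_apply {C : Type u} [CommRing C] (f : A →+* B) (g : B →+* C) (x : η.N A) :
    η.Nmap g (η.Nmap f x) = η.Nmap (g.comp f) x := by
  rw [Nmap_comp]; rfl

theorem Nmap_id (x : η.N A) : η.Nmap (RingHom.id A) x = x := by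
  funext q; rw [Nmap_apply_eq_ev, RingHom.comp_id, ev_algebraMap]

theorem t_eq_zero_iff (b : B) : η.t B b = 0 ↔ IsNilpotent b := by
  rw [funext_iff, nilpotent_iff_mem_prime]
  constructor
  · intro h J hJ
    exact Ideal.algebraMap_residueField_eq_zero.1
      ((map_eq_zero_iff _ (η.eta _).injective).1 (h ⟨J, hJ⟩))
  · intro h p
    change η.eta _ (algebraMap B _ b) = 0
    rw [Ideal.algebraMap_residueField_eq_zero.2 (h p.asIdeal p.isPrime), map_zero]

theorem t_injective [IsReduced B] : Function.Injective (η.t B) :=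
  (injective_iff_map_eq_zero _).2 fun b hb => ((t_eq_zero_iff η b).1 hb).eq_zero

theorem q_ker_le_nilradical : RingHom.ker (η.q A) ≤ nilradical A := fun a ha =>
  mem_nilradical.2 ((t_eq_zero_iff η a).1 (congrArg Subtype.val (RingHom.mem_ker.1 ha)))

/-! ### Bijectivity of `Nmap` -/

theorem Nmap_injective {f : A →+* B} (h : Function.Surjective (PrimeSpectrum.comap f)) :
    Function.Injective (η.Nmap f) := by
  intro x y hxy
  funext p
  obtain ⟨q, rfl⟩ := h p
  exact (η.map _).injective (congrFun hxy q)

theorem Nmap_bijective_of {f : A →+* B} (hc : Function.Bijective (PrimeSpectrum.comap f))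
    (hm : ∀ q : PrimeSpectrum B, Function.Bijective
      (η.map (resMap f q))) :
    Function.Bijective (η.Nmap f) := by
  refine ⟨Nmap_injective η hc.2, fun y => ?_⟩
  classical
  have : ∀ p : PrimeSpectrum A, ∃ v : η.obj p.asIdeal.ResidueField,
      ∀ q, PrimeSpectrum.comap f q = p → η.Nmap f (Pi.single p v) q = y q := by
    intro p
    obtain ⟨q, rfl⟩ := hc.2 p
    obtain ⟨v, hv⟩ := (hm q).2 (y q)
    refine ⟨v, fun q' hq' => ?_⟩
    obtain rfl := hc.1 hq'
    rw [Nmap_apply, Pi.single_eq_same, hv]
  choose v hv using this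
  refine ⟨v, funext fun q => ?_⟩
  rw [← hv _ q rfl, Nmap_apply, Nmap_apply, Pi.single_eq_same]

theorem comap_bijective_of_Nmap {f : A →+* B} (h : Function.Bijective (η.Nmap f)) :
    Function.Bijective (PrimeSpectrum.comap f) := by
  classical
  constructor
  · intro q q' hqq
    by_contra hne
    obtain ⟨x, hx⟩ := h.2 (Pi.single q 1)
    have h1 : x (PrimeSpectrum.comap f q) ≠ 0 := fun h0 => by
      have := congrFun hx q
      rw [Nmap_apply, h0, map_zero, Pi.single_eq_same] at this
      exact zero_ne_one this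
    have h2 := congrFun hx q'
    rw [Nmap_apply, Pi.single_eq_of_ne (Ne.symm hne), map_eq_zero_iff _ (RingHom.injective _)] at h2
    exact h1 (hqq ▸ h2)
  · intro p
    by_contra hp
    push Not at hp
    have h0 : η.Nmap f (Pi.single p 1) = η.Nmap f 0 := by
      funext q
      rw [Nmap_apply, Pi.single_eq_of_ne (hp q), map_zero, map_zero]; rfl
    have := congrFun (h.1 h0) p
    rw [Pi.single_eq_same] at this
    exact one_ne_zero this

theorem map_bijective_of_Nmap {f : A →+* B} (h : Function.Bijective (η.Nmap f))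
    (q : PrimeSpectrum B) : Function.Bijective
      (η.map (resMap f q)) := by
  classical
  refine ⟨RingHom.injective _, fun v => ?_⟩
  obtain ⟨x, hx⟩ := h.2 (Pi.single q v)
  exact ⟨x (PrimeSpectrum.comap f q), (congrFun hx q).trans (Pi.single_eq_same _ _)⟩

/-- If `Nmap f` is bijective, maps to fields in `V_η` extend along `f`. -/
theorem exists_extension_field {f : A →+* B} (h : Function.Bijective (η.Nmap f))
    {L : Type u} [Field L] (hL : Function.Bijective (η.eta L)) (g : A →+* L) :
    ∃ g' : B →+* L, g'.comp f = g := by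
  obtain ⟨q, hq⟩ := (comap_bijective_of_Nmap η h).2 (kerPt g)
  obtain ⟨φ, hφ⟩ := factor_of_map_bijective η _ (map_bijective_of_Nmap η h q)
  have hk : RingHom.ker g = (PrimeSpectrum.comap f q).asIdeal := by rw [hq]; rfl
  let j : (PrimeSpectrum.comap f q).asIdeal.ResidueField →+* L :=
    liftField (PrimeSpectrum.comap f q) g hk
  refine ⟨((RingEquiv.ofBijective _ hL).symm.toRingHom.comp
    ((η.map j).comp φ)).comp (algebraMap B q.asIdeal.ResidueField), RingHom.ext fun a => ?_⟩
  change (RingEquiv.ofBijective _ hL).symm (η.map j (φ (algebraMap B _ (f a)))) = g a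
  rw [← resMap_algebraMap f q a,
    ← RingHom.comp_apply φ, hφ, eta_natural_apply]
  refine (RingEquiv.ofBijective _ hL).symm_apply_apply _ |>.trans ?_
  exact liftField_algebraMap _ g hk a

/-! ### The ring `M A` -/

theorem M_spec {x : η.N A} (hx : x ∈ η.M A) (R : Type u) [CommRing R] [IsDomain R] [ValuationRing R]
    (hR : η.InV R) (g : A →+* R) :
    ∃ r : R, ∀ (E : Type u) [Field E] (h : R →+* E), ev η (h.comp g) x = η.eta E (h r) := by
  obtain ⟨r, hr⟩ := hx R hR g
  exact ⟨r, fun E _ h => by rw [← ev_Nmap, ← hr, ev_t]⟩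

theorem mem_M_of {x : η.N A}
    (H : ∀ (R : Type u) [CommRing R] [IsDomain R] [ValuationRing R], η.InV R → ∀ g : A →+* R,
      ∃ r : R, ∀ P : PrimeSpectrum R,
        ev η ((algebraMap R P.asIdeal.ResidueField).comp g) x =
          η.eta _ (algebraMap R P.asIdeal.ResidueField r)) : x ∈ η.M A := by
  intro R _ _ _ hR g
  obtain ⟨r, hr⟩ := H R hR g
  refine ⟨r, funext fun P => ?_⟩
  rw [Nmap_apply_eq_ev, hr P]; rfl

theorem Nmap_mem_M (f : A →+* B) {x : η.N A} (hx : x ∈ η.M A) : η.Nmap f x ∈ η.M B := by
  intro R _ _ _ hR g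
  rw [Nmap_comp_apply]
  exact hx R hR _

/-- The functorial map `M A → M B`. -/
noncomputable def Mmap (f : A →+* B) : η.M A →+* η.M B :=
  ((η.Nmap f).comp (η.M A).subtype).codRestrict (η.M B) fun x => Nmap_mem_M η f x.2

/-- A map to a valuation subring of a field in `V_η` with prescribed centre. -/
theorem exists_valuationSubring {L : Type u} [Field L] (g : A →+* L) (q : PrimeSpectrum A)
    (hq : RingHom.ker g ≤ q.asIdeal) :
    ∃ (V : ValuationSubring L) (g' : A →+* V), V.subtype.comp g' = g ∧
      RingHom.ker ((IsLocalRing.residue V).comp g') = q.asIdeal := by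
  let gl : Localization.AtPrime q.asIdeal →+* L :=
    IsLocalization.lift (M := q.asIdeal.primeCompl) (g := g)
      fun s => isUnit_iff_ne_zero.2 fun h => s.2 (hq (RingHom.mem_ker.2 h))
  obtain ⟨V, hV, hloc⟩ := IsLocalRing.exists_factor_valuationRing gl
  let gv : Localization.AtPrime q.asIdeal →+* V := gl.codRestrict V.toSubring hV
  refine ⟨V, gv.comp (algebraMap A _), RingHom.ext fun a => IsLocalization.lift_eq _ a, ?_⟩
  rw [← RingHom.comp_assoc, ← RingHom.comap_ker, ← RingHom.comap_ker, IsLocalRing.ker_residue]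
  -- local homomorphism
  have h2 : Ideal.comap gv (IsLocalRing.maximalIdeal V) =
      IsLocalRing.maximalIdeal (Localization.AtPrime q.asIdeal) :=
    ((IsLocalRing.local_hom_TFAE gv).out 0 4).1 hloc
  rw [h2]
  exact IsLocalization.AtPrime.under_maximalIdeal (Localization.AtPrime q.asIdeal) q.asIdeal

theorem apply_eq_zero_of_ker_le {L : Type u} [Field L] (hL : Function.Bijective (η.eta L))
    {x : η.N A} (hx : x ∈ η.M A) (g : A →+* L) (h0 : ev η g x = 0) (q : PrimeSpectrum A)
    (hq : RingHom.ker g ≤ q.asIdeal) : x q = 0 := by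
  obtain ⟨V, g', hg', hker⟩ := exists_valuationSubring g q hq
  obtain ⟨r, hr⟩ := M_spec η hx V (inV_valuationSubring η hL V) g'
  have hr0 : r = 0 := by
    have := hr L V.subtype
    rw [hg', h0] at this
    exact Subtype.ext (hL.1 (this.symm.trans (map_zero _).symm))
  have := hr _ (IsLocalRing.residue V)
  rw [hr0, map_zero, map_zero] at this
  exact (ev_eq_zero_iff η _ q hker x).1 this

/-- The standard map `A → F k(p)`. -/
noncomputable abbrev toObj (p : PrimeSpectrum A) : A →+* η.obj p.asIdeal.ResidueField :=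
  (η.eta p.asIdeal.ResidueField).comp (algebraMap A p.asIdeal.ResidueField)

theorem ker_toObj (p : PrimeSpectrum A) : RingHom.ker (toObj η p) = p.asIdeal := by
  rw [RingHom.ker_comp_of_injective _ (η.eta p.asIdeal.ResidueField).injective,
    Ideal.ker_algebraMap_residueField]

theorem ev_toObj (p : PrimeSpectrum A) (x : η.N A) :
    ev η (toObj η p) x = η.eta (η.obj p.asIdeal.ResidueField) (x p) := by
  rw [ev_comp, ev_algebraMap, map_eta_eq]

theorem apply_eq_zero_of_le {x : η.N A} (hx : x ∈ η.M A) {p q : PrimeSpectrum A}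
    (hpq : p.asIdeal ≤ q.asIdeal) (h0 : x p = 0) : x q = 0 := by
  refine apply_eq_zero_of_ker_le η (eta_obj_bijective η _) hx (toObj η p) ?_ q
    ((ker_toObj η p).trans_le hpq)
  rw [ev_toObj, h0, map_zero]

theorem eq_zero_of_minimalPrimes {x : η.N A} (hx : x ∈ η.M A)
    (h : ∀ p : PrimeSpectrum A, p.asIdeal ∈ minimalPrimes A → x p = 0) : x = 0 := by
  funext q
  obtain ⟨p, hp, hpq⟩ := Ideal.exists_minimalPrimes_le (I := (⊥ : Ideal A)) (J := q.asIdeal) bot_le
  exact apply_eq_zero_of_le η hx (p := ⟨p, hp.1.1⟩) hpq (h _ hp)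

theorem eq_of_minimalPrimes {x y : η.N A} (hx : x ∈ η.M A) (hy : y ∈ η.M A)
    (h : ∀ p : PrimeSpectrum A, p.asIdeal ∈ minimalPrimes A → x p = y p) : x = y :=
  sub_eq_zero.1 (eq_zero_of_minimalPrimes η (Subring.sub_mem _ hx hy)
    fun p hp => sub_eq_zero.2 (h p hp))

/-- If the minimal primes of `A` are images of primes of `B`, then `Nmap f` is injective on `M A`. -/
theorem Nmap_injOn_M {f : A →+* B}
    (h : ∀ p : PrimeSpectrum A, p.asIdeal ∈ minimalPrimes A →
      p ∈ Set.range (PrimeSpectrum.comap f)) :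
    Set.InjOn (η.Nmap f) (η.M A) := by
  intro x hx y hy hxy
  refine eq_of_minimalPrimes η hx hy fun p hp => ?_
  obtain ⟨q, rfl⟩ := h p hp
  exact (η.map _).injective (congrFun hxy q)

theorem mem_valuationSubring {L : Type u} [Field L] {x : η.N A} (hx : x ∈ η.M A)
    (hL : Function.Bijective (η.eta L)) (g : A →+* L) (y : L) (hy : η.eta L y = ev η g x)
    (V : ValuationSubring L) (hV : ∀ a, g a ∈ V) : y ∈ V := by
  obtain ⟨r, hr⟩ := M_spec η hx V (inV_valuationSubring η hL V) (g.codRestrict V.toSubring hV)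
  have h1 : ev η g x = η.eta L (r : L) := hr L V.subtype
  rw [hL.1 (hy.trans h1)]
  exact r.2

theorem isIntegralElem_of_forall_mem {L : Type u} [Field L] (g : A →+* L) (y : L)
    (H : ∀ V : ValuationSubring L, (∀ a, g a ∈ V) → y ∈ V) : g.IsIntegralElem y := by
  have h2 : IsIntegral (Subring.closure (Set.range g)) y := by
    have h3 : y ∈ (⨅ V : {V : ValuationSubring L // Set.range g ⊆ V.toSubring}, V.1.toSubring) :=
      Subring.mem_iInf.2 fun V => H V.1 fun a => V.2 ⟨a, rfl⟩
    rw [iInf_valuationSubring_superset] at h3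
    exact h3
  letI := g.toAlgebra
  have hle : Subring.closure (Set.range g) ≤ (algebraMap A L).range :=
    Subring.closure_le.2 (by rintro _ ⟨a, rfl⟩; exact ⟨a, rfl⟩)
  change IsIntegral A y
  letI : Algebra A (Subring.closure (Set.range g)) :=
    (g.codRestrict (Subring.closure (Set.range g)) fun a => Subring.subset_closure ⟨a, rfl⟩).toAlgebra
  haveI : IsScalarTower A (Subring.closure (Set.range g)) L :=
    IsScalarTower.of_algebraMap_eq fun a => rfl
  haveI : @Algebra.IsIntegral A (Subring.closure (Set.range g)) _ _ _ :=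
    Algebra.IsIntegral.mk fun z => by
      obtain ⟨a, ha⟩ := hle z.2
      have hz : z = algebraMap A (Subring.closure (Set.range g)) a := Subtype.ext ha.symm
      rw [hz]; exact isIntegral_algebraMap
  exact isIntegral_trans y h2

theorem isIntegralElem_of_ev {L : Type u} [Field L] {x : η.N A} (hx : x ∈ η.M A)
    (hL : Function.Bijective (η.eta L)) (g : A →+* L) (y : L) (hy : η.eta L y = ev η g x) :
    g.IsIntegralElem y :=
  isIntegralElem_of_forall_mem g y fun V hV => mem_valuationSubring η hx hL g y hy V hV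

theorem isIntegralElem_apply {x : η.N A} (hx : x ∈ η.M A) (p : PrimeSpectrum A) :
    (toObj η p).IsIntegralElem (x p) :=
  isIntegralElem_of_ev η hx (eta_obj_bijective η _) _ _ (ev_toObj η p x).symm

/-- Evaluation of `M A` at a prime of `A`. -/
noncomputable abbrev evp (p : PrimeSpectrum A) : η.M A →+* η.obj p.asIdeal.ResidueField :=
  (Pi.evalRingHom (fun p : PrimeSpectrum A => η.obj p.asIdeal.ResidueField) p).comp
    (η.M A).subtype

theorem evp_comp_q (p : PrimeSpectrum A) : (evp η p).comp (η.q A) = toObj η p := rfl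

theorem q_isIntegral (hA : (minimalPrimes A).Finite) : (η.q A).IsIntegral := by
  classical
  intro x
  have key : ∀ p : PrimeSpectrum A, ∃ P : Polynomial A, P.Monic ∧
      Polynomial.eval₂ (toObj η p) ((x : η.N A) p) P = 0 :=
    fun p => isIntegralElem_apply η x.2 p
  choose P hP using key
  have hfin : {p : PrimeSpectrum A | p.asIdeal ∈ minimalPrimes A}.Finite :=
    hA.preimage fun _ _ _ _ h => PrimeSpectrum.ext h
  refine ⟨∏ p ∈ hfin.toFinset, P p, Polynomial.monic_prod_of_monic _ _ fun p _ => (hP p).1, ?_⟩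
  refine Subtype.ext (eq_zero_of_minimalPrimes η (Subtype.coe_prop _) fun p hp => ?_)
  change evp η p (Polynomial.eval₂ (η.q A) x _) = 0
  rw [Polynomial.hom_eval₂, evp_comp_q, Polynomial.eval₂_finsetProd]
  exact Finset.prod_eq_zero (hfin.mem_toFinset.2 hp) (hP p).2

/-- A prime of `M A` is the kernel of evaluation at its image in `Spec A`. -/
theorem prime_eq_ker_evp (hA : (minimalPrimes A).Finite) (Q : PrimeSpectrum (η.M A)) :
    Q.asIdeal = RingHom.ker (evp η (PrimeSpectrum.comap (η.q A) Q)) := by
  classical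
  have hfin : {p : PrimeSpectrum A | p.asIdeal ∈ minimalPrimes A}.Finite :=
    hA.preimage fun _ _ _ _ h => PrimeSpectrum.ext h
  have hle : hfin.toFinset.inf (fun p => RingHom.ker (evp η p)) ≤ Q.asIdeal := by
    intro x hx
    rw [Submodule.mem_finsetInf] at hx
    have : x = 0 := Subtype.ext (eq_zero_of_minimalPrimes η x.2 fun p hp =>
      RingHom.mem_ker.1 (hx p (hfin.mem_toFinset.2 hp)))
    rw [this]; exact zero_mem _
  obtain ⟨p₀, -, hp₀⟩ := Q.isPrime.inf_le'.1 hle
  obtain ⟨V, g', hg', hker⟩ := exists_valuationSubring (evp η p₀) Q hp₀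
  ext x
  obtain ⟨r, hr⟩ := M_spec η x.2 V (inV_valuationSubring η (eta_obj_bijective η _) V)
    (g'.comp (η.q A))
  have hr1 : r = g' x := by
    have h1 := hr _ V.subtype
    rw [← RingHom.comp_assoc, hg', evp_comp_q, ev_toObj] at h1
    refine Subtype.ext ?_
    have h2 : (g' x : η.obj p₀.asIdeal.ResidueField) = (x : η.N A) p₀ :=
      congrArg (fun k : η.M A →+* η.obj p₀.asIdeal.ResidueField => k x) hg'
    rw [h2]
    exact ((eta_obj_bijective η _).1 h1).symm
  have h3 := hr _ (IsLocalRing.residue V)
  have hk : RingHom.ker ((IsLocalRing.residue V).comp (g'.comp (η.q A))) =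
      (PrimeSpectrum.comap (η.q A) Q).asIdeal := by
    rw [← RingHom.comp_assoc, ← RingHom.comap_ker, hker]; rfl
  have h4 := ev_eq_zero_iff η _ _ hk (x : η.N A)
  rw [h3, hr1, map_eq_zero_iff _ (RingHom.injective _)] at h4
  rw [← hker]
  exact h4

theorem comap_q_bijective (hA : (minimalPrimes A).Finite) :
    Function.Bijective (PrimeSpectrum.comap (η.q A)) := by
  refine ⟨fun Q Q' h => PrimeSpectrum.ext ?_, fun p => ⟨kerPt (evp η p), PrimeSpectrum.ext ?_⟩⟩
  · rw [prime_eq_ker_evp η hA Q, prime_eq_ker_evp η hA Q', h]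
  · change Ideal.comap (η.q A) (RingHom.ker (evp η p)) = p.asIdeal
    rw [RingHom.comap_ker, evp_comp_q, ker_toObj]

/-- The residue field factorisation condition for a map out of `A`. -/
abbrev HasFactor {C : Type u} [CommRing C] (v : A →+* C) : Prop :=
  ∀ Q : PrimeSpectrum C,
    ∃ φ : Q.asIdeal.ResidueField →+* η.obj (PrimeSpectrum.comap v Q).asIdeal.ResidueField,
      φ.comp (resMap v Q) =
        η.eta (PrimeSpectrum.comap v Q).asIdeal.ResidueField

theorem Nmap_bijective_of_hasFactor {v : A →+* B} (hc : Function.Bijective (PrimeSpectrum.comap v))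
    (h : HasFactor η v) : Function.Bijective (η.Nmap v) :=
  Nmap_bijective_of η hc fun q => by
    obtain ⟨φ, hφ⟩ := h q
    exact map_bijective_of_factor η _ φ hφ

section Between

variable {C : Type u} [CommRing C] (v : A →+* C) (ψ : C →+* η.M A) (hψ : ψ.comp v = η.q A)
  (hker : RingHom.ker ψ ≤ nilradical C)

include hψ hker

theorem between_isIntegral (hA : (minimalPrimes A).Finite) : v.IsIntegral := by
  intro c
  obtain ⟨P, hP, hc⟩ := q_isIntegral η hA (ψ c)
  have : ψ (Polynomial.eval₂ v c P) = 0 := by rw [Polynomial.hom_eval₂, hψ]; exact hc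
  obtain ⟨n, hn⟩ := mem_nilradical.1 (hker (RingHom.mem_ker.2 this))
  refine ⟨P ^ n, hP.pow n, ?_⟩
  rw [Polynomial.eval₂_pow, hn]

theorem between_comap_surjective (hA : (minimalPrimes A).Finite) :
    Function.Surjective (PrimeSpectrum.comap ψ) := by
  intro Q
  have hint : ψ.IsIntegral :=
    RingHom.IsIntegral.tower_top v ψ (hψ ▸ q_isIntegral η hA)
  letI := ψ.toAlgebra
  haveI : Algebra.IsIntegral C (η.M A) := ⟨hint⟩
  have hQ : RingHom.ker (algebraMap C (η.M A)) ≤ Q.asIdeal := hker.trans (nilradical_le_prime Q.asIdeal)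
  obtain ⟨P, -, hP, hPQ⟩ := Ideal.exists_ideal_over_prime_of_isIntegral (R := C) (S := η.M A)
    Q.asIdeal ⊥ hQ
  exact ⟨⟨P, hP⟩, PrimeSpectrum.ext hPQ⟩

theorem between_comap_bijective (hA : (minimalPrimes A).Finite) :
    Function.Bijective (PrimeSpectrum.comap v) := by
  have hb := comap_q_bijective η hA
  rw [← hψ, PrimeSpectrum.comap_comp] at hb
  exact ⟨fun Q Q' h => by
    obtain ⟨P, rfl⟩ := between_comap_surjective η v ψ hψ hker hA Q
    obtain ⟨P', rfl⟩ := between_comap_surjective η v ψ hψ hker hA Q'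
    rw [hb.1 h], hb.2.of_comp⟩

theorem between_factor (hA : (minimalPrimes A).Finite) (Q : PrimeSpectrum C) :
    ∃ φ : Q.asIdeal.ResidueField →+* η.obj (PrimeSpectrum.comap v Q).asIdeal.ResidueField,
      φ.comp (resMap v Q) = η.eta (PrimeSpectrum.comap v Q).asIdeal.ResidueField ∧
      φ.comp (algebraMap C _) = (evp η (PrimeSpectrum.comap v Q)).comp ψ := by
  let p := PrimeSpectrum.comap v Q
  have hk : RingHom.ker ((evp η p).comp ψ) = Q.asIdeal := by
    refine congrArg PrimeSpectrum.asIdeal ((between_comap_bijective η v ψ hψ hker hA).1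
      (a₁ := kerPt ((evp η p).comp ψ)) (a₂ := Q) (PrimeSpectrum.ext ?_))
    change Ideal.comap v (RingHom.ker ((evp η p).comp ψ)) = p.asIdeal
    rw [RingHom.comap_ker, RingHom.comp_assoc, hψ, evp_comp_q, ker_toObj]
  refine ⟨liftField Q ((evp η p).comp ψ) hk,
    Ideal.ResidueField.ringHom_ext (RingHom.ext fun a => ?_),
    RingHom.ext fun c => liftField_algebraMap Q ((evp η p).comp ψ) hk c⟩
  rw [RingHom.comp_apply, RingHom.comp_apply, resMap_algebraMap,
    liftField_algebraMap, RingHom.comp_apply,
    show ψ (v a) = η.q A a from congrArg (fun k : A →+* η.M A => k a) hψ]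
  rfl

theorem between_hasFactor (hA : (minimalPrimes A).Finite) : HasFactor η v := fun Q =>
  (between_factor η v ψ hψ hker hA Q).imp fun _ h => h.1

theorem between_Nmap_bijective (hA : (minimalPrimes A).Finite) : Function.Bijective (η.Nmap v) :=
  Nmap_bijective_of_hasFactor η (between_comap_bijective η v ψ hψ hker hA)
    (between_hasFactor η v ψ hψ hker hA)

end Between

theorem q_hasFactor (hA : (minimalPrimes A).Finite) : HasFactor η (η.q A) :=
  between_hasFactor η (η.q A) (RingHom.id _) (RingHom.id_comp _)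
    (fun x hx => by rw [RingHom.mem_ker, RingHom.id_apply] at hx; rw [hx]; exact zero_mem _) hA

theorem Nmap_q_bijective (hA : (minimalPrimes A).Finite) : Function.Bijective (η.Nmap (η.q A)) :=
  Nmap_bijective_of_hasFactor η (comap_q_bijective η hA) (q_hasFactor η hA)

theorem ker_id_le : RingHom.ker (RingHom.id (η.M A)) ≤ nilradical (η.M A) := fun x hx => by
  rw [RingHom.mem_ker, RingHom.id_apply] at hx
  rw [hx]; exact zero_mem _

theorem Nmap_q_eq_t (hA : (minimalPrimes A).Finite) (x : η.M A) :
    η.Nmap (η.q A) (x : η.N A) = η.t (η.M A) x := by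
  funext Q
  obtain ⟨φ, hφ, hφx⟩ :=
    between_factor η (η.q A) (RingHom.id _) (RingHom.id_comp _) (ker_id_le η) hA Q
  apply (η.map φ).injective
  rw [Nmap_apply, map_map, hφ, map_eta_eq]
  change _ = η.map φ (η.eta _ (algebraMap (η.M A) _ x))
  rw [eta_natural_apply]
  exact congrArg _ (congrArg (fun k : η.M A →+* _ => k x) hφx).symm

end Groth.Agent.EtaPtLib
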