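import Groth.Agent.EtaPtLib.Rel
import Mathlib.RingTheory.Localization.Away.Basic
import Mathlib.RingTheory.Ideal.MinimalPrime.Localization
import Mathlib.RingTheory.Localization.Integral
import Mathlib.RingTheory.Spectrum.Prime.Topology

/-!
# `M` and `rel` under localisation away from an element
-/

set_option autoImplicit false

universe u

namespace Groth.Agent.EtaPtLib

open _root_.EtaPt

variable (η : FieldEndo.{u}) {A B : Type u} [CommRing A] [CommRing B]

/-- The map `A → A_f`. -/
noncomputable abbrev loc (f : A) : A →+* Localization.Away f := algebraMap A (Localization.Away f)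

theorem mem_range_comap_loc (f : A) (p : PrimeSpectrum A) :
    p ∈ Set.range (PrimeSpectrum.comap (loc f)) ↔ f ∉ p.asIdeal := by
  rw [PrimeSpectrum.localization_away_comap_range (Localization.Away f) f]; rfl

theorem exists_extend (f : A) (y : η.N (Localization.Away f)) :
    ∃ x : η.N A, η.Nmap (loc f) x = y ∧ ∀ p : PrimeSpectrum A, f ∈ p.asIdeal → x p = 0 := by
  classical
  have hinj : Function.Injective (PrimeSpectrum.comap (loc f)) :=
    PrimeSpectrum.localization_comap_injective _ (Submonoid.powers f)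
  have : ∀ p : PrimeSpectrum A, ∃ v : η.obj p.asIdeal.ResidueField,
      (f ∈ p.asIdeal → v = 0) ∧
      ∀ q, PrimeSpectrum.comap (loc f) q = p → η.Nmap (loc f) (Pi.single p v) q = y q := by
    intro p
    by_cases hp : f ∈ p.asIdeal
    · exact ⟨0, fun _ => rfl, fun q hq => absurd hp ((mem_range_comap_loc f p).1 ⟨q, hq⟩)⟩
    · obtain ⟨q, rfl⟩ := (mem_range_comap_loc f p).2 hp
      obtain ⟨v, hv⟩ := (map_bijective_of_bijective η (resMap (loc f) q)
        ((RingHom.surjectiveOnStalks_of_isLocalization (Submonoid.powers f)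
          (Localization.Away f)).residueFieldMap_bijective _ _ rfl)).2 (y q)
      refine ⟨v, fun h => absurd h hp, fun q' hq' => ?_⟩
      obtain rfl := hinj hq'
      rw [Nmap_apply, Pi.single_eq_same]; exact hv
  choose v hv0 hv using this
  refine ⟨v, funext fun q => ?_, hv0⟩
  rw [← hv _ q rfl, Nmap_apply, Nmap_apply, Pi.single_eq_same]

theorem ext_away (f : A) {x x' : η.N A} (h : η.Nmap (loc f) x = η.Nmap (loc f) x')
    (h0 : ∀ p : PrimeSpectrum A, f ∈ p.asIdeal → x p = x' p) : x = x' := by
  funext p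
  by_cases hp : f ∈ p.asIdeal
  · exact h0 p hp
  · obtain ⟨q, rfl⟩ := (mem_range_comap_loc f p).2 hp
    exact (η.map _).injective (congrFun h q)

theorem t_apply_eq_zero (f : A) (p : PrimeSpectrum A) (hp : f ∈ p.asIdeal) : η.t A f p = 0 := by
  change η.eta _ (algebraMap A _ f) = 0
  rw [Ideal.algebraMap_residueField_eq_zero.2 hp, map_zero]

theorem minimalPrimes_away_finite (f : A) (hA : (minimalPrimes A).Finite) :
    (minimalPrimes (Localization.Away f)).Finite := by
  have h := IsLocalization.minimalPrimes_map (Submonoid.powers f) (Localization.Away f) (⊥ : Ideal A)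
  rw [Ideal.map_bot] at h
  refine (hA.preimage ?_).subset h.le
  intro P _ Q _ e
  exact (IsLocalization.map_under (Submonoid.powers f) (Localization.Away f) P).symm.trans
    ((congrArg (Ideal.map (algebraMap A (Localization.Away f))) e).trans
      (IsLocalization.map_under (Submonoid.powers f) (Localization.Away f) Q))

theorem exists_mem_M_away (hA : (minimalPrimes A).Finite) (f : A)
    {y : η.N (Localization.Away f)} (hy : y ∈ η.M (Localization.Away f)) :
    ∃ x ∈ η.M A, ∃ n : ℕ,
      y * η.t (Localization.Away f) (loc f f) ^ n = η.Nmap (loc f) x := by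
  letI : Algebra (Localization.Away f) (η.M (Localization.Away f)) :=
    (η.q (Localization.Away f)).toAlgebra
  letI : Algebra A (η.M (Localization.Away f)) :=
    ((η.q (Localization.Away f)).comp (loc f)).toAlgebra
  haveI : IsScalarTower A (Localization.Away f) (η.M (Localization.Away f)) :=
    IsScalarTower.of_algebraMap_eq fun _ => rfl
  have hyI : IsIntegral (Localization.Away f) (⟨y, hy⟩ : η.M (Localization.Away f)) :=
    q_isIntegral η (minimalPrimes_away_finite f hA) _
  obtain ⟨⟨_, k, rfl⟩, P, hP, hPy⟩ :=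
    IsIntegral.exists_multiple_integral_of_isLocalization (Submonoid.powers f) _ hyI
  set z := y * η.t (Localization.Away f) (loc f f) ^ k with hz
  have hzM : z ∈ η.M (Localization.Away f) := mul_mem hy (pow_mem (η.t_mem_M _ _) k)
  have hPz : Polynomial.eval₂ ((η.t (Localization.Away f)).comp (loc f)) z P = 0 := by
    have h := congrArg (η.M (Localization.Away f)).subtype hPy
    rw [Polynomial.hom_eval₂, map_zero] at h
    have e : (η.M (Localization.Away f)).subtype
        ((⟨f ^ k, k, rfl⟩ : Submonoid.powers f) • (⟨y, hy⟩ : η.M (Localization.Away f))) = z := by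
      rw [Submonoid.smul_def, Algebra.smul_def]
      change η.t (Localization.Away f) (loc f (f ^ k)) * y = z
      rw [hz, map_pow, map_pow, mul_comm]
    rw [e] at h
    exact h
  obtain ⟨x, hx, hx0⟩ := exists_extend η f (z * η.t (Localization.Away f) (loc f f))
  refine ⟨x, ?_, k + 1, by rw [hx, hz, pow_succ, mul_assoc]⟩
  refine mem_M_of η fun R _ _ _ hR g => ?_
  by_cases hgf : g f = 0
  · refine ⟨0, fun Q => ?_⟩
    rw [map_zero, map_zero, ev_eq_zero_iff η _ (kerPt _) rfl]
    exact hx0 _ (RingHom.mem_ker.2 (by rw [RingHom.comp_apply, hgf, map_zero]))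
  let L := FractionRing R
  have hRL := IsFractionRing.injective R L
  have hunit : IsUnit (((algebraMap R L).comp g) f) :=
    isUnit_iff_ne_zero.2 ((map_ne_zero_iff _ hRL).2 hgf)
  let gL : Localization.Away f →+* L := IsLocalization.Away.lift f hunit
  have hgL : gL.comp (loc f) = (algebraMap R L).comp g := IsLocalization.Away.lift_comp f hunit
  obtain ⟨r₀', hr₀'⟩ := hR.2 (ev η gL z)
  obtain ⟨r₀, rfl⟩ := exists_algebraMap_eq_of_isIntegralElem L g r₀'
    ⟨P, hP, hR.1 (by
      rw [Polynomial.hom_eval₂, map_zero, hr₀', ← hgL, ← RingHom.comp_assoc]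
      have h := congrArg (ev η gL) hPz
      rw [Polynomial.hom_eval₂, map_zero] at h
      convert h using 2
      exact RingHom.ext fun a => (ev_t η gL _).symm)⟩
  refine ⟨r₀ * g f, fun Q => ?_⟩
  set π := algebraMap R Q.asIdeal.ResidueField
  by_cases hQ : π (g f) = 0
  · rw [map_mul, hQ, mul_zero, map_zero, ev_eq_zero_iff η _ (kerPt _) rfl]
    exact hx0 _ (RingHom.mem_ker.2 hQ)
  let h₁ : Localization.Away f →+* Q.asIdeal.ResidueField :=
    IsLocalization.Away.lift f (g := π.comp g) (isUnit_iff_ne_zero.2 hQ)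
  have hh₁ : h₁.comp (loc f) = π.comp g := IsLocalization.Away.lift_comp f _
  have key : ev η h₁ z = η.eta _ (π r₀) := by
    obtain ⟨V, j, hj, hker⟩ := exists_valuationSubring (algebraMap R L) Q
      (by rw [(RingHom.injective_iff_ker_eq_bot _).1 hRL]; exact bot_le)
    have hju : IsUnit (j (g f)) := by
      by_contra hu
      refine hQ (Ideal.algebraMap_residueField_eq_zero.2 ?_)
      rw [← hker, RingHom.mem_ker, RingHom.comp_apply, IsLocalRing.residue_eq_zero_iff]
      exact hu
    let g₁ : Localization.Away f →+* V := IsLocalization.Away.lift f (g := j.comp g) hju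
    have hg₁ : g₁.comp (loc f) = j.comp g := IsLocalization.Away.lift_comp f _
    obtain ⟨v, hv⟩ := M_spec η hzM V (inV_valuationSubring η hR V) g₁
    have hgen : V.subtype.comp g₁ = gL := IsLocalization.ringHom_ext (Submonoid.powers f) (by
      rw [RingHom.comp_assoc, hg₁, ← RingHom.comp_assoc, hj, hgL])
    have hv' : v = j r₀ := by
      have h := hv L V.subtype
      rw [hgen, ← hr₀'] at h
      refine Subtype.ext ((hR.1 h).symm.trans ?_)
      exact (congrArg (fun k : R →+* L => k r₀) hj).symm
    let χ : Q.asIdeal.ResidueField →+* IsLocalRing.ResidueField V :=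
      liftField Q ((IsLocalRing.residue V).comp j) hker
    have hχ : χ.comp π = (IsLocalRing.residue V).comp j :=
      RingHom.ext fun a => liftField_algebraMap _ _ hker a
    have hres : χ.comp h₁ = (IsLocalRing.residue V).comp g₁ :=
      IsLocalization.ringHom_ext (Submonoid.powers f) (by
        rw [RingHom.comp_assoc, RingHom.comp_assoc, hh₁, hg₁, ← RingHom.comp_assoc, hχ,
          RingHom.comp_assoc])
    apply (η.map χ).injective
    rw [← ev_comp, hres, eta_natural_apply, hv, hv']
    exact congrArg _ (congrArg (fun k : R →+* IsLocalRing.ResidueField V => k r₀) hχ).symm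
  rw [← hh₁, ← ev_Nmap, hx, map_mul, key, ev_t, map_mul, map_mul,
    show h₁ (loc f f) = π (g f) from congrArg (fun k : A →+* _ => k f) hh₁]

theorem exists_mem_rel_away (hA : (minimalPrimes A).Finite) (φ : A →+* B) (f : A)
    {y : Localization.Away (φ f)} (hy : y ∈ η.rel (Localization.awayMap φ f)) :
    ∃ b ∈ η.rel φ, ∃ n : ℕ, y * loc (φ f) (φ f) ^ n = loc (φ f) b := by
  obtain ⟨x', hx', hx'y⟩ := (mem_rel_iff η _ y).1 hy
  obtain ⟨x, hx, n, hxn⟩ := exists_mem_M_away η hA f hx'
  obtain ⟨⟨b₀, ⟨_, m, rfl⟩⟩, hb₀⟩ := IsLocalization.surj (Submonoid.powers (φ f)) y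
  have hb₀' : y * loc (φ f) (φ f) ^ m = loc (φ f) b₀ := by rw [← map_pow]; exact hb₀
  have hsq : (loc (φ f)).comp φ = (Localization.awayMap φ f).comp (loc f) :=
    (IsLocalization.map_comp (Q := Localization.Away (φ f)) _).symm
  refine ⟨b₀ * φ f ^ (n + 1),
    (mem_rel_iff η _ _).2 ⟨x * η.t A f ^ (m + 1), mul_mem hx (pow_mem (η.t_mem_M A f) _), ?_⟩,
    m + n + 1, ?_⟩
  · refine ext_away η (φ f) ?_ fun p hp => ?_
    · rw [Nmap_comp_apply, hsq, map_mul, ← Nmap_comp_apply, ← hxn, map_mul, map_pow, map_pow,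
        η.Nmap_t_apply, η.Nmap_t_apply, η.Nmap_t_apply, hx'y,
        ← RingHom.comp_apply (Localization.awayMap φ f), ← hsq, RingHom.comp_apply, map_mul,
        map_pow, ← hb₀']
      simp only [map_mul, map_pow]
      ring
    · rw [map_mul, map_pow, η.Nmap_t_apply, map_mul, map_pow, Pi.mul_apply, Pi.mul_apply,
        Pi.pow_apply, Pi.pow_apply, t_apply_eq_zero η _ p hp, zero_pow (Nat.succ_ne_zero m),
        zero_pow (Nat.succ_ne_zero n), mul_zero, mul_zero]
  · rw [map_mul, map_pow, ← hb₀']; ring

theorem map_rel_away (φ : A →+* B) (f : A) {b : B} (hb : b ∈ η.rel φ) :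
    loc (φ f) b ∈ η.rel (Localization.awayMap φ f) :=
  map_rel_mem η φ (Localization.awayMap φ f) (loc f) (loc (φ f))
    (IsLocalization.map_comp (Q := Localization.Away (φ f)) _) hb

theorem qRel_awayMap_bijective (hA : (minimalPrimes A).Finite) (φ : A →+* B)
    (h : Function.Bijective (η.qRel φ)) (f : A) :
    Function.Bijective (η.qRel (Localization.awayMap φ f)) := by
  rw [qRel_bijective_iff] at h ⊢
  refine ⟨Localization.awayMap_injective_iff.2 fun a ha =>
    ⟨0, by rw [h.1 (ha.trans (map_zero φ).symm), mul_zero]⟩, fun y hy => ?_⟩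
  obtain ⟨b, hb, n, hn⟩ := exists_mem_rel_away η hA φ f hy
  obtain ⟨a, rfl⟩ := h.2 b hb
  let w := IsLocalization.mk' (Localization.Away f) a (⟨f ^ n, n, rfl⟩ : Submonoid.powers f)
  refine ⟨w, ?_⟩
  have hu : IsUnit (loc (φ f) (φ f) ^ n) :=
    (IsLocalization.Away.algebraMap_isUnit (φ f)).pow n
  apply hu.mul_left_injective
  change Localization.awayMap φ f w * loc (φ f) (φ f) ^ n = y * loc (φ f) (φ f) ^ n
  have hsq : ∀ c, loc (φ f) (φ c) = Localization.awayMap φ f (loc f c) := fun c =>
    (IsLocalization.map_eq (Q := Localization.Away (φ f)) _ c).symm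
  rw [hn, hsq, hsq, ← map_pow, ← map_mul, ← map_pow (loc f),
    IsLocalization.mk'_spec (Localization.Away f) a (⟨f ^ n, n, rfl⟩ : Submonoid.powers f)]

theorem qRel_bijective_of_cover (φ : A →+* B) (s : Finset A)
    (hspan : Ideal.span (s : Set A) = ⊤)
    (h : ∀ f ∈ s, Function.Bijective (η.qRel (Localization.awayMap φ f))) :
    Function.Bijective (η.qRel φ) := by
  simp only [qRel_bijective_iff] at h ⊢
  refine ⟨(injective_iff_map_eq_zero φ).2 fun a ha => ?_, fun b hb => ?_⟩
  · have : ∀ f ∈ s, ∃ n : ℕ, f ^ n * a = 0 := fun f hf =>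
      Localization.awayMap_injective_iff.1 (h f hf).1 a ha
    choose! n hn using this
    have htop := Ideal.span_pow_eq_top (s : Set A) hspan
    let J : Ideal A :=
      { carrier := {c | c * a = 0}
        add_mem' := fun {c d} (hc : c * a = 0) (hd : d * a = 0) => by
          change (c + d) * a = 0; rw [add_mul, hc, hd, add_zero]
        zero_mem' := zero_mul a
        smul_mem' := fun e c (hc : c * a = 0) => by
          change e * c * a = 0; rw [mul_assoc, hc, mul_zero] }
    have hJ : J = ⊤ := top_le_iff.1 ((htop (∑ f ∈ s, n f)).symm.le.trans (Ideal.span_le.2 (by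
      rintro _ ⟨f, hf, rfl⟩
      change f ^ (∑ f ∈ s, n f) * a = 0
      rw [← Nat.sub_add_cancel (Finset.single_le_sum (fun i _ => Nat.zero_le (n i)) hf), pow_add,
        mul_assoc, hn f hf, mul_zero])))
    have h1 : (1 : A) ∈ J := hJ ▸ Submodule.mem_top
    exact (one_mul a).symm.trans h1
  · have : ∀ f ∈ s, ∃ n : ℕ, φ f ^ n * b ∈ φ.range := fun f hf => by
      obtain ⟨w, hw⟩ := (h f hf).2 _ (map_rel_away η φ f hb)
      obtain ⟨⟨a, ⟨_, m, rfl⟩⟩, ha⟩ := IsLocalization.surj (Submonoid.powers f) w
      have h2 := congrArg (Localization.awayMap φ f) ha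
      have e1 : Localization.awayMap φ f w * loc (φ f) (φ (f ^ m)) = loc (φ f) (φ a) := by
        rw [map_mul] at h2
        exact (congrArg _ (IsLocalization.map_eq (Q := Localization.Away (φ f)) _ (f ^ m)).symm).trans
          (h2.trans (IsLocalization.map_eq (Q := Localization.Away (φ f)) _ a))
      rw [show Localization.awayMap φ f w = loc (φ f) b from hw, ← map_mul] at e1
      obtain ⟨⟨_, k, rfl⟩, hk⟩ :=
        (IsLocalization.eq_iff_exists (Submonoid.powers (φ f)) _).1 e1
      refine ⟨k + m, f ^ k * a, ?_⟩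
      rw [map_mul, map_pow, ← hk, map_pow, pow_add]; ring
    choose! n hn using this
    have htop := Ideal.span_pow_eq_top (s : Set A) hspan
    let J : Ideal A :=
      { carrier := {c | φ c * b ∈ φ.range}
        add_mem' := fun {c d} hc hd => by
          change φ (c + d) * b ∈ φ.range; rw [map_add, add_mul]; exact add_mem hc hd
        zero_mem' := by change φ 0 * b ∈ φ.range; rw [map_zero, zero_mul]; exact zero_mem _
        smul_mem' := fun e c hc => by
          change φ (e * c) * b ∈ φ.range; rw [map_mul, mul_assoc]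
          exact mul_mem ⟨e, rfl⟩ hc }
    have hJ : J = ⊤ := top_le_iff.1 ((htop (∑ f ∈ s, n f)).symm.le.trans (Ideal.span_le.2 (by
      rintro _ ⟨f, hf, rfl⟩
      change φ (f ^ (∑ f ∈ s, n f)) * b ∈ φ.range
      rw [← Nat.sub_add_cancel (Finset.single_le_sum (fun i _ => Nat.zero_le (n i)) hf), map_pow,
        pow_add, mul_assoc]
      exact mul_mem (pow_mem (⟨f, rfl⟩ : φ f ∈ φ.range) _) (hn f hf))))
    have h1 : (1 : A) ∈ J := hJ ▸ Submodule.mem_top
    have h2 : φ 1 * b ∈ φ.range := h1
    rwa [map_one, one_mul] at h2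

end Groth.Agent.EtaPtLib
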