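import Groth.Agent.EtaPtLib.Rel
import Groth.Agent.WN.Residue

/-!
# The identity endofunctor: seminormalisation conditions
-/

set_option autoImplicit false

universe u

namespace Groth.Agent.EtaPtLib

open _root_.EtaPt CategoryTheory AlgebraicGeometry

variable {A C : Type u} [CommRing A] [CommRing C]

theorem univHomeo_resIso_of_hasFactor (ψ : A →+* C) (hint : ψ.IsIntegral)
    (hc : Function.Bijective (PrimeSpectrum.comap ψ)) (hf : HasFactor FieldEndo.ident.{u} ψ) :
    FlatMor.IsUnivHomeo (Spec.map (CommRingCat.ofHom ψ)) ∧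
      HTop.ResidueFieldsIso (Spec.map (CommRingCat.ofHom ψ)) := by
  have hsurj : ∀ Q : PrimeSpectrum C, Function.Surjective (resMap ψ Q) := fun Q y => by
    obtain ⟨φ, hφ⟩ := hf Q
    exact ⟨φ y, φ.injective (congrArg (fun k : _ →+* _ => k (φ y)) hφ)⟩
  rw [WN.isUnivHomeo_specMap_iff, WN.residueFieldsIso_specMap_iff]
  refine ⟨⟨hint, hc.2, fun K _ g₁ g₂ hg => ?_⟩, fun q hq b =>
    (WN.surjective_residueMap_iff ψ q).1 (hsurj ⟨q, hq⟩) b⟩
  have hk : kerPt g₁ = kerPt g₂ := hc.1 (PrimeSpectrum.ext (by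
    change Ideal.comap ψ (RingHom.ker g₁) = Ideal.comap ψ (RingHom.ker g₂)
    rw [RingHom.comap_ker, RingHom.comap_ker, hg]))
  have hk₂ : RingHom.ker g₂ = (kerPt g₁).asIdeal := by rw [hk]; rfl
  refine RingHom.ext fun c => ?_
  obtain ⟨z, hz⟩ := hsurj (kerPt g₁) (algebraMap C _ c)
  rw [← liftField_algebraMap (kerPt g₁) g₁ rfl c, ← liftField_algebraMap (kerPt g₁) g₂ hk₂ c, ← hz,
    ← RingHom.comp_apply, ← RingHom.comp_apply]
  congr 1
  exact Ideal.ResidueField.ringHom_ext (RingHom.ext fun a => by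
    simp only [RingHom.comp_apply]
    rw [resMap_algebraMap, liftField_algebraMap, liftField_algebraMap]
    exact congrArg (fun k : A →+* K => k a) hg)

theorem integral_Nmap_bijective_of_univHomeo (ψ : A →+* C)
    (h₁ : FlatMor.IsUnivHomeo (Spec.map (CommRingCat.ofHom ψ)))
    (h₂ : HTop.ResidueFieldsIso (Spec.map (CommRingCat.ofHom ψ))) :
    ψ.IsIntegral ∧ Function.Bijective (FieldEndo.ident.{u}.Nmap ψ) := by
  rw [WN.isUnivHomeo_specMap_iff] at h₁
  rw [WN.residueFieldsIso_specMap_iff] at h₂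
  exact ⟨h₁.isIntegral, Nmap_bijective_of _ ⟨h₁.injective_comap, h₁.surj⟩ fun q =>
    map_bijective_of_bijective _ _ ⟨RingHom.injective _,
      (WN.surjective_residueMap_iff ψ q.asIdeal).2 (h₂ q.asIdeal)⟩⟩

end Groth.Agent.EtaPtLib
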