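import Groth.Agent.EtaPtLib.Basic
import Mathlib.Algebra.GCDMonoid.IntegrallyClosed
import Mathlib.RingTheory.Valuation.ValuationRing
import Mathlib.RingTheory.Bezout

/-!
# `rel`, `qRel` and the behaviour of `M` along integral maps with bijective `Nmap`
-/

set_option autoImplicit false

universe u

namespace Groth.Agent.EtaPtLib

open _root_.EtaPt

variable (η : FieldEndo.{u}) {A B : Type u} [CommRing A] [CommRing B]

/-- Elements of the fraction field of a valuation ring integral over a subring of it lie in it. -/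
theorem exists_algebraMap_eq_of_isIntegralElem {R : Type u} [CommRing R] [IsDomain R]
    [ValuationRing R] (L : Type u) [Field L] [Algebra R L] [IsFractionRing R L] (g : A →+* R)
    (y : L) (hy : ((algebraMap R L).comp g).IsIntegralElem y) : ∃ r : R, algebraMap R L r = y := by
  obtain ⟨P, hP, hy⟩ := hy
  refine IsIntegrallyClosed.algebraMap_eq_of_integral ⟨P.map g, hP.map g, ?_⟩
  rw [Polynomial.eval₂_map]; exact hy

/-- Lifting of maps to valuation rings in `V_η`. -/
theorem exists_lift_valuationRing (f : A →+* B) (hf : f.IsIntegral)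
    (hN : Function.Bijective (η.Nmap f)) (R : Type u) [CommRing R] [IsDomain R] [ValuationRing R]
    (hR : η.InV R) (g : A →+* R) : ∃ g' : B →+* R, g'.comp f = g := by
  obtain ⟨g₁, hg₁⟩ :=
    exists_extension_field η hN hR ((algebraMap R (FractionRing R)).comp g)
  have h : ∀ b, ∃ r : R, algebraMap R (FractionRing R) r = g₁ b := by
    intro b
    obtain ⟨P, hP, hb⟩ := hf b
    refine exists_algebraMap_eq_of_isIntegralElem _ g _ ⟨P, hP, ?_⟩
    rw [← hg₁, ← Polynomial.hom_eval₂, hb, map_zero]
  choose r hr using h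
  have hinj := IsFractionRing.injective R (FractionRing R)
  refine ⟨{ toFun := r
            map_one' := hinj (by rw [hr, map_one, map_one])
            map_zero' := hinj (by rw [hr, map_zero, map_zero])
            map_add' := fun a b => hinj (by rw [hr, map_add, map_add, hr, hr])
            map_mul' := fun a b => hinj (by rw [hr, map_mul, map_mul, hr, hr]) },
    RingHom.ext fun a => hinj ?_⟩
  exact (hr (f a)).trans (congrArg (fun k : A →+* FractionRing R => k a) hg₁)

theorem mem_M_of_Nmap_mem (f : A →+* B) (hf : f.IsIntegral) (hN : Function.Bijective (η.Nmap f))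
    {x : η.N A} (hx : η.Nmap f x ∈ η.M B) : x ∈ η.M A := by
  intro R _ _ _ hR g
  obtain ⟨g', hg'⟩ := exists_lift_valuationRing η f hf hN R hR g
  rw [← hg', ← Nmap_comp_apply]
  exact hx R hR g'

theorem bijOn_Nmap_M (f : A →+* B) (hf : f.IsIntegral) (hN : Function.Bijective (η.Nmap f)) :
    Set.BijOn (η.Nmap f) (η.M A) (η.M B) := by
  refine ⟨fun x hx => Nmap_mem_M η f hx, hN.1.injOn, fun y hy => ?_⟩
  obtain ⟨x, rfl⟩ := hN.2 y
  exact ⟨x, mem_M_of_Nmap_mem η f hf hN hy, rfl⟩

/-! ### `rel` and `qRel` -/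

theorem qRel_bijective_iff (f : A →+* B) :
    Function.Bijective (η.qRel f) ↔ Function.Injective f ∧ ∀ b ∈ η.rel f, b ∈ f.range := by
  constructor
  · intro h
    refine ⟨fun a a' e => h.1 (Subtype.ext e), fun b hb => ?_⟩
    obtain ⟨a, ha⟩ := h.2 ⟨b, hb⟩
    exact ⟨a, congrArg Subtype.val ha⟩
  · rintro ⟨hi, hr⟩
    refine ⟨fun a a' e => hi (congrArg Subtype.val e), fun b => ?_⟩
    obtain ⟨a, ha⟩ := hr b b.2
    exact ⟨a, Subtype.ext ha⟩

theorem mem_rel_iff (f : A →+* B) (b : B) :
    b ∈ η.rel f ↔ ∃ x ∈ η.M A, η.Nmap f x = η.t B b := Iff.rfl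

/-- A commutative square maps `rel` to `rel`. -/
theorem map_rel_mem {A' B' : Type u} [CommRing A'] [CommRing B'] (j : A →+* B) (j' : A' →+* B')
    (f : A →+* A') (g : B →+* B') (h : j'.comp f = g.comp j) {b : B} (hb : b ∈ η.rel j) :
    g b ∈ η.rel j' := by
  obtain ⟨x, hx, hxb⟩ := (mem_rel_iff η j b).1 hb
  refine (mem_rel_iff η j' _).2 ⟨η.Nmap f x, Nmap_mem_M η f hx, ?_⟩
  rw [Nmap_comp_apply, h, ← Nmap_comp_apply, hxb, η.Nmap_t_apply]

theorem rel_unique {f : A →+* B} (hs : Function.Surjective (PrimeSpectrum.comap f)) {b : B}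
    (hb : b ∈ η.rel f) : ∃! x : η.M A, η.Nmap f (x : η.N A) = η.t B b := by
  obtain ⟨x, hx, hxb⟩ := (mem_rel_iff η f b).1 hb
  exact ⟨⟨x, hx⟩, hxb, fun y hy => Subtype.ext (Nmap_injective η hs (hy.trans hxb.symm))⟩

/-- The projection `rel f → M A`. -/
noncomputable def relToM (f : A →+* B) (hs : Function.Surjective (PrimeSpectrum.comap f)) :
    η.rel f →+* η.M A where
  toFun b := (rel_unique η hs b.2).exists.choose
  map_one' := Subtype.ext (Nmap_injective η hs <| by
    rw [(rel_unique η hs (1 : η.rel f).2).exists.choose_spec, Subring.coe_one, Subring.coe_one,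
      map_one, map_one])
  map_zero' := Subtype.ext (Nmap_injective η hs <| by
    rw [(rel_unique η hs (0 : η.rel f).2).exists.choose_spec, Subring.coe_zero, Subring.coe_zero,
      map_zero, map_zero])
  map_add' a b := Subtype.ext (Nmap_injective η hs <| by
    rw [(rel_unique η hs (a + b : η.rel f).2).exists.choose_spec, Subring.coe_add, Subring.coe_add,
      map_add, map_add, (rel_unique η hs a.2).exists.choose_spec,
      (rel_unique η hs b.2).exists.choose_spec])
  map_mul' a b := Subtype.ext (Nmap_injective η hs <| by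
    rw [(rel_unique η hs (a * b : η.rel f).2).exists.choose_spec, Subring.coe_mul, Subring.coe_mul,
      map_mul, map_mul, (rel_unique η hs a.2).exists.choose_spec,
      (rel_unique η hs b.2).exists.choose_spec])

theorem Nmap_relToM (f : A →+* B) (hs : Function.Surjective (PrimeSpectrum.comap f))
    (b : η.rel f) : η.Nmap f (relToM η f hs b : η.N A) = η.t B (b : B) :=
  (rel_unique η hs b.2).exists.choose_spec

theorem relToM_comp (f : A →+* B) (hs : Function.Surjective (PrimeSpectrum.comap f)) :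
    (relToM η f hs).comp (η.qRel f) = η.q A :=
  RingHom.ext fun a => Subtype.ext (Nmap_injective η hs
    ((Nmap_relToM η f hs (η.qRel f a)).trans (η.Nmap_t_apply f a).symm))

theorem relToM_ker (f : A →+* B) (hs : Function.Surjective (PrimeSpectrum.comap f)) :
    RingHom.ker (relToM η f hs) ≤ nilradical (η.rel f) := by
  intro b hb
  have h : η.t B (b : B) = 0 := by
    rw [← Nmap_relToM η f hs b, RingHom.mem_ker.1 hb, Subring.coe_zero, map_zero]
  obtain ⟨n, hn⟩ := (t_eq_zero_iff η _).1 h
  exact mem_nilradical.2 ⟨n, Subtype.ext (by rw [Subring.coe_pow, hn]; rfl)⟩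

theorem qRel_isIntegral (hA : (minimalPrimes A).Finite) (f : A →+* B)
    (hs : Function.Surjective (PrimeSpectrum.comap f)) : (η.qRel f).IsIntegral :=
  between_isIntegral η _ _ (relToM_comp η f hs) (relToM_ker η f hs) hA

theorem rel_isIntegralElem (hA : (minimalPrimes A).Finite) (f : A →+* B)
    (hs : Function.Surjective (PrimeSpectrum.comap f)) {b : B} (hb : b ∈ η.rel f) :
    f.IsIntegralElem b := by
  obtain ⟨P, hP, h⟩ := qRel_isIntegral η hA f hs ⟨b, hb⟩
  refine ⟨P, hP, ?_⟩
  have := congrArg (η.rel f).subtype h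
  rw [Polynomial.hom_eval₂, map_zero] at this
  exact this

/-- The universal map of `q` on integral ring maps with bijective `Nmap`. -/
theorem existsUnique_lift_q (hA : (minimalPrimes A).Finite) (g : A →+* B)
    (hg : g.IsIntegral) (hN : Function.Bijective (η.Nmap g)) :
    ∃! g' : B →+* η.M A, g'.comp g = η.q A := by
  let e := RingEquiv.ofBijective _ hN
  have hmem : ∀ b, e.symm (η.t B b) ∈ η.M A := fun b => mem_M_of_Nmap_mem η g hg hN (by
    have : η.Nmap g (e.symm (η.t B b)) = η.t B b := e.apply_symm_apply _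
    rw [this]; exact η.t_mem_M B b)
  refine ⟨(e.symm.toRingHom.comp (η.t B)).codRestrict (η.M A) hmem,
    RingHom.ext fun a => Subtype.ext ?_, fun g'' hg'' => ?_⟩
  · change e.symm (η.t B (g a)) = η.t A a
    rw [← η.Nmap_t_apply]; exact e.symm_apply_apply _
  · refine RingHom.ext fun b => Subtype.ext ((Nmap_q_bijective η hA).1 ?_)
    change η.Nmap (η.q A) (g'' b : η.N A) = η.Nmap (η.q A) (e.symm (η.t B b))
    have h2 : η.Nmap g (e.symm (η.t B b)) = η.t B b := e.apply_symm_apply _
    rw [Nmap_q_eq_t η hA, ← η.Nmap_t_apply g'' b, ← h2, Nmap_comp_apply, hg'', h2]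

/-- A ring over `M A` with integral map and bijective `Nmap` equals `M A`. -/
theorem bijective_of_isIntegral_of_isReduced (hA : (minimalPrimes A).Finite) [IsReduced B]
    (f : η.M A →+* B) (hf : f.IsIntegral) (hN : Function.Bijective (η.Nmap f)) :
    Function.Bijective f := by
  have hN' : Function.Bijective (η.Nmap (f.comp (η.q A))) := by
    rw [Nmap_comp]; exact hN.comp (Nmap_q_bijective η hA)
  have hint : (f.comp (η.q A)).IsIntegral := RingHom.IsIntegral.trans _ _ (q_isIntegral η hA) hf
  have key : ∀ x : η.M A, η.Nmap (f.comp (η.q A)) (x : η.N A) = η.t B (f x) := fun x => by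
    rw [← Nmap_comp_apply, Nmap_q_eq_t η hA, η.Nmap_t_apply]
  refine ⟨fun x y h => Subtype.ext (hN'.1 (by rw [key, key, h])), fun b => ?_⟩
  obtain ⟨x, hx, hxb⟩ := (bijOn_Nmap_M η _ hint hN').2.2 (η.t_mem_M B b)
  exact ⟨⟨x, hx⟩, t_injective η ((key ⟨x, hx⟩).symm.trans hxb)⟩

theorem q_M_bijective (hA : (minimalPrimes A).Finite) : Function.Bijective (η.q (η.M A)) := by
  have hb := bijOn_Nmap_M η (η.q A) (q_isIntegral η hA) (Nmap_q_bijective η hA)
  refine ⟨fun x y h => Subtype.ext ((Nmap_q_bijective η hA).1 ?_), fun z => ?_⟩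
  · rw [Nmap_q_eq_t η hA, Nmap_q_eq_t η hA]; exact congrArg Subtype.val h
  · obtain ⟨x, hx, hxz⟩ := hb.2.2 z.2
    exact ⟨⟨x, hx⟩, Subtype.ext ((Nmap_q_eq_t η hA ⟨x, hx⟩).symm.trans hxz)⟩

end Groth.Agent.EtaPtLib
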